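import Cfsg.Agent.Chars.ThreePrimes.Simple
import Cfsg.Prelude.Def_DegreeGraph
import Mathlib

/-!
# A non-solvable group has three degree primes
-/

set_option autoImplicit false
set_option linter.unusedSectionVars false

namespace Cfsg.Lib.Chars.ThreePrimes

universe u

variable {G : Type u} [Group G] [Finite G]

/-- The degree primes of a normal subgroup are degree primes of the group. -/
theorem degreePrimes_normal (N : Subgroup G) [N.Normal] : Cfsg.degreePrimes N ⊆ Cfsg.degreePrimes G := by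
  classical
  letI := Fintype.ofFinite G
  letI := Fintype.ofFinite N
  rintro p ⟨hp, d, ⟨θ, rfl⟩, hd⟩
  obtain ⟨χ, hχ, hc⟩ := exists_over N θ.2
  obtain ⟨m, hm, -⟩ := deg_over N hχ θ.2 hc
  refine ⟨hp, _, ⟨⟨χ, hχ⟩, rfl⟩, ?_⟩
  rw [charDegree_eq_deg θ.2] at hd
  show p ∣ Cfsg.charDegree χ
  rw [charDegree_eq_deg hχ, hm]
  exact hd.mul_left m

/-- The degree primes of a quotient are degree primes of the group. -/
theorem degreePrimes_quotient (N : Subgroup G) [N.Normal] :
    Cfsg.degreePrimes (G ⧸ N) ⊆ Cfsg.degreePrimes G := by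
  rintro p ⟨hp, d, ⟨χ, rfl⟩, hd⟩
  have hirr := IsIrrCharacter.comp_surjective χ.2 (QuotientGroup.mk' N) (QuotientGroup.mk'_surjective N)
  refine ⟨hp, _, ⟨⟨_, hirr⟩, rfl⟩, ?_⟩
  show p ∣ Cfsg.charDegree (fun g : G => (χ : G ⧸ N → ℂ) (QuotientGroup.mk' N g))
  rw [Cfsg.charDegree] at hd ⊢
  simpa using hd

theorem not_subset_pair : ∀ (n : ℕ) (G : Type u) [Group G] [Finite G], Nat.card G = n →
    ¬ Group.IsSolvable G → ∀ p q : ℕ, p.Prime → q.Prime →
      ∃ l ∈ Cfsg.degreePrimes G, l ≠ p ∧ l ≠ q := by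
  intro n
  induction n using Nat.strong_induction_on with
  | _ n ih =>
    intro G _ _ hn hns p q hp hq
    haveI : Nontrivial G := not_subsingleton_iff_nontrivial.1 fun h => hns (by infer_instance)
    by_cases hsimple : IsSimpleGroup G
    · have hna : ¬ IsMulCommutative G := fun h => hns (Group.isSolvable_of_comm fun a b => h.is_comm.comm a b)
      obtain ⟨χ, l, hl, hld, h1, h2⟩ := simple_not_two_primes hna hp hq
      refine ⟨l, ⟨hl, _, ⟨χ, rfl⟩, ?_⟩, h1, h2⟩
      letI := Fintype.ofFinite G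
      rwa [charDegree_eq_deg χ.2]
    obtain ⟨N, hN, hbot, htop⟩ : ∃ H : Subgroup G, H.Normal ∧ H ≠ ⊥ ∧ H ≠ ⊤ := by
      by_contra h
      push Not at h
      exact hsimple ⟨fun H hH => or_iff_not_imp_left.mpr (h H hH)⟩
    haveI := hN
    by_cases hNs : Group.IsSolvable N
    · have hQ : ¬ Group.IsSolvable (G ⧸ N) := fun h =>
        hns (Group.isSolvable_of_ker_le_range N.subtype (QuotientGroup.mk' N)
          (by rw [QuotientGroup.ker_mk', Subgroup.range_subtype]))
      have hlt : Nat.card (G ⧸ N) < n := by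
        rw [← hn, N.card_eq_card_quotient_mul_card_subgroup]
        exact lt_mul_of_one_lt_right Nat.card_pos ((Subgroup.one_lt_card_iff_ne_bot N).2 hbot)
      obtain ⟨l, hl, h⟩ := ih _ hlt (G ⧸ N) rfl hQ p q hp hq
      exact ⟨l, degreePrimes_quotient N hl, h⟩
    · have hlt : Nat.card N < n := by
        rw [← hn]
        exact lt_of_le_of_ne (Subgroup.card_le_card_group N)
          fun h => htop (Subgroup.eq_top_of_card_eq N h)
      obtain ⟨l, hl, h⟩ := ih _ hlt N rfl hNs p q hp hq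
      exact ⟨l, degreePrimes_normal N hl, h⟩

end Cfsg.Lib.Chars.ThreePrimes
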