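import Cfsg.Agent.Chars.Burnside
import Cfsg.Agent.Chars.DegreeTools
import Mathlib

/-!
# Degrees sharing a prime with a class size in a simple group

In a non-abelian simple group every non-trivial class has, for every prime `r`, a character of degree
prime to `r` whose degree is not prime to the class size.
-/

set_option autoImplicit false
set_option linter.unusedSectionVars false

namespace Cfsg.Lib.Chars.ThreePrimes

open scoped ComplexConjugate
open Module

universe u

variable {G : Type u} [Group G]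

/-- An irreducible character of a simple group with a non-central element acting as a scalar is principal. -/
theorem eq_principal_of_norm [Fintype G] [IsSimpleGroup G] {g : G} (hcen : g ∉ Subgroup.center G)
    (χ : Cfsg.IrrCharacter G) (hnorm : ‖(χ : G → ℂ) g‖ = ((χ : G → ℂ) 1).re) : χ = principal G := by
  classical
  by_contra hχ
  obtain ⟨n, ρ, hρ, hchar⟩ := χ.2
  rw [← hchar, ρ.char_one, Complex.natCast_re] at hnorm
  obtain ⟨ω, hω, -⟩ := scalar_of_norm_character_eq ρ g hnorm
  have hker : ρ.ker = ⊥ := by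
    refine (IsSimpleGroup.eq_bot_or_eq_top_of_normal ρ.ker inferInstance).resolve_right fun h => ?_
    apply hχ
    have htriv : ∀ x, ρ x = 1 := fun x => by
      have : x ∈ ρ.ker := h ▸ Subgroup.mem_top x
      exact this
    have h1 : Cfsg.classInner (χ : G → ℂ) χ = 1 := classInner_irr_self χ
    have hval : ∀ x, (χ : G → ℂ) x = (finrank ℂ (Fin n → ℂ) : ℂ) := fun x => by
      rw [← hchar, Representation.character, htriv, LinearMap.trace_one]
    rw [classInner_def] at h1
    simp only [hval, map_natCast, Finset.sum_const, Finset.card_univ, nsmul_eq_mul] at h1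
    rw [← mul_assoc, Nat.card_eq_fintype_card,
      inv_mul_cancel₀ (by exact_mod_cast Fintype.card_ne_zero), one_mul] at h1
    have h2 : finrank ℂ (Fin n → ℂ) = 1 := by
      have : finrank ℂ (Fin n → ℂ) * finrank ℂ (Fin n → ℂ) = 1 := by exact_mod_cast h1
      exact Nat.eq_one_of_mul_eq_one_right this
    apply Subtype.ext
    funext x
    rw [hval, h2]
    simp [principal]
  apply hcen
  rw [Subgroup.mem_center_iff]
  intro x
  have hinj : Function.Injective ρ := (MonoidHom.ker_eq_bot_iff ρ).mp hker
  apply hinj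
  rw [map_mul, map_mul, hω]
  ext v
  simp

/-- The key consequence of column orthogonality and Burnside's lemma. -/
theorem exists_deg_not_coprime [Finite G] [IsSimpleGroup G] (hna : ¬ IsMulCommutative G) {r : ℕ}
    (hr : r.Prime) {g : G} (hg : g ≠ 1) :
    ∃ χ : Cfsg.IrrCharacter G, ¬ r ∣ deg (χ : G → ℂ) ∧
      ¬ (deg (χ : G → ℂ)).Coprime (Subgroup.centralizer ({g} : Set G)).index := by
  classical
  have hcen : g ∉ Subgroup.center G := fun h => by
    rcases IsSimpleGroup.eq_bot_or_eq_top_of_normal (Subgroup.center G) inferInstance with h' | h'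
    · exact hg (Subgroup.mem_bot.1 (h' ▸ h))
    · exact hna ⟨⟨fun a b => (Subgroup.mem_center_iff.1 (h' ▸ Subgroup.mem_top a) b).symm⟩⟩
  letI := Fintype.ofFinite G
  by_contra hno
  push Not at hno
  have hvan : ∀ χ : Cfsg.IrrCharacter G, χ ≠ principal G → ¬ r ∣ deg (χ : G → ℂ) →
      (χ : G → ℂ) g = 0 := fun χ hχ hd =>
    (burnside_zero_or_max χ.2 g (by rw [card_isConj]; exact hno χ hd)).resolve_right
      fun hn => hχ (eq_principal_of_norm hcen χ hn)
  have hsum := sum_deg_mul g
  rw [if_neg hg, ← Finset.add_sum_erase Finset.univ _ (Finset.mem_univ (principal G))] at hsum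
  have hint : IsIntegral ℤ ((1 : ℂ) / (r : ℂ)) := by
    have : (1 : ℂ) / (r : ℂ) = - ∑ χ ∈ Finset.univ.erase (principal G),
        (χ : G → ℂ) 1 / (r : ℂ) * (χ : G → ℂ) g := by
      rw [← Finset.sum_neg_distrib]
      simp only [principal] at hsum ⊢
      rw [show (1 : ℂ) * 1 = 1 from one_mul 1] at hsum
      rw [Finset.sum_congr rfl (g := fun χ : Cfsg.IrrCharacter G =>
        -((χ : G → ℂ) 1 * (χ : G → ℂ) g) / (r : ℂ)) (fun χ _ => by ring), ← Finset.sum_div,
        Finset.sum_neg_distrib]
      congr 1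
      linear_combination hsum
    rw [this]
    refine (IsIntegral.sum _ fun χ hχ => ?_).neg
    by_cases hd : r ∣ deg (χ : G → ℂ)
    · obtain ⟨d, hd⟩ := hd
      rw [irr_apply_one_eq_deg, hd, Nat.cast_mul, mul_div_cancel_left₀ _ (by exact_mod_cast hr.ne_zero)]
      exact (isIntegral_algebraMap (R := ℤ) (x := (d : ℤ))).mul
        (IsCharacter.isIntegral (isCharacter_of_irr χ.2) g)
    · rw [hvan χ (Finset.mem_erase.mp hχ).1 hd, mul_zero]
      exact isIntegral_zero
  exact hr.not_dvd_one (dvd_of_isIntegral_div (a := 1) hr.ne_zero (by simpa using hint))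

/-- A non-trivial element whose class size is prime to `q`. -/
theorem exists_class_prime_to [Finite G] [Nontrivial G] {q : ℕ} (hq : q.Prime) :
    ∃ g : G, g ≠ 1 ∧ ¬ q ∣ (Subgroup.centralizer ({g} : Set G)).index := by
  by_cases hd : q ∣ Nat.card G
  swap
  · obtain ⟨g, hg⟩ := exists_ne (1 : G)
    exact ⟨g, hg, fun h => hd (h.trans (Subgroup.index_dvd_card _))⟩
  haveI : Fact q.Prime := ⟨hq⟩
  let P : Sylow q G := Classical.arbitrary _
  haveI hPnt : Nontrivial (P : Subgroup G) := by
    rw [← Finite.one_lt_card_iff_nontrivial, P.card_eq_multiplicity]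
    exact Nat.one_lt_pow ((hq.factorization_pos_of_dvd Nat.card_pos.ne' hd).ne') hq.one_lt
  have := P.isPGroup'.center_nontrivial
  obtain ⟨z, hz⟩ := exists_ne (1 : Subgroup.center (P : Subgroup G))
  refine ⟨((z : (P : Subgroup G)) : G), fun h => hz (Subtype.ext (Subtype.ext h)), fun h => ?_⟩
  have hle : (P : Subgroup G) ≤ Subgroup.centralizer ({((z : (P : Subgroup G)) : G)} : Set G) := by
    intro x hx
    rw [Subgroup.mem_centralizer_singleton_iff]
    exact congrArg Subtype.val (Subgroup.mem_center_iff.mp z.2 ⟨x, hx⟩)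
  exact P.not_dvd_index (h.trans (Subgroup.index_dvd_of_le hle))

/-- In a non-abelian simple group the degrees are not all supported on two primes. -/
theorem simple_not_two_primes [Finite G] [IsSimpleGroup G] (hna : ¬ IsMulCommutative G) {p q : ℕ}
    (hp : p.Prime) (hq : q.Prime) :
    ∃ (χ : Cfsg.IrrCharacter G) (l : ℕ), l.Prime ∧ l ∣ deg (χ : G → ℂ) ∧ l ≠ p ∧ l ≠ q := by
  obtain ⟨g, hg, hqg⟩ := exists_class_prime_to (G := G) hq
  obtain ⟨χ, hpχ, hco⟩ := exists_deg_not_coprime hna hp hg
  obtain ⟨l, hl, hld, hli⟩ := Nat.Prime.not_coprime_iff_dvd.1 hco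
  exact ⟨χ, l, hl, hld, fun e => hpχ (e ▸ hld), fun e => hqg (e ▸ hli)⟩

end Cfsg.Lib.Chars.ThreePrimes
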